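import Groth.Agent.Lib.Rigidity.Relative.Descent
import Groth.Agent.Lib.Rigidity.Relative.Hom
import Groth.Agent.Lib.Rigidity.Relative.AbScheme
import Groth.Prelude.Def_Red

/-!
# Rigidity in factorisation form
-/

set_option autoImplicit false

universe u

open CategoryTheory CategoryTheory.Limits MonoidalCategory CartesianMonoidalCategory AlgebraicGeometry
open scoped MonObj

namespace GrothLib.Rigid27

open GrothLib.Rigidity

variable {X T Y S : Scheme.{u}}

theorem surjective_of_h0 (g : X ⟶ T)
    (h0 : ∀ t : T, Function.Bijective (pullback.snd g (T.fromSpecResidueField t)).appTop) : Surjective g := by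
  refine ⟨fun t => ?_⟩
  have hne : Nonempty ↥(pullback g (T.fromSpecResidueField t)) := by
    by_contra hne
    rw [not_nonempty_iff] at hne
    exact one_ne_zero (α := T.residueField t) <|
      (Scheme.ΓSpecIso (T.residueField t)).commRingCatIsoToRingEquiv.symm.injective
        ((h0 t).1 (Subsingleton.elim _ _))
  obtain ⟨w⟩ := hne
  refine ⟨pullback.fst g (T.fromSpecResidueField t) w, ?_⟩
  rw [← Scheme.Hom.comp_apply, pullback.condition, Scheme.Hom.comp_apply, Scheme.fromSpecResidueField_apply]

/-- A morphism collapsing one fibre of a proper flat family factors through the base. -/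
theorem exists_factor (g : X ⟶ T) [IsProper g] [Flat g] [LocallyOfFinitePresentation g] [FibrewiseConst g]
    [Surjective g] [PreconnectedSpace T] (p : T ⟶ S) (q : Y ⟶ S) [IsSeparated q] (f : X ⟶ Y)
    (hf : f ≫ q = g ≫ p) (t : T) (ht : ∀ x x' : X, g x = t → g x' = t → f x = f x') :
    ∃ k : T ⟶ Y, k ≫ q = p ∧ f = g ≫ k := by
  obtain ⟨W, hWc, hW, k, hk⟩ := exists_isClopen_factor g p q f hf
  have htW : t ∈ W := (hW t).mp (by rintro _ ⟨x, hx, rfl⟩ _ ⟨x', hx', rfl⟩; exact ht x x' hx hx')
  have hWtop : W = ⊤ :=
    TopologicalSpace.Opens.ext (IsClopen.eq_univ (s := (W : Set T)) ⟨hWc, W.2⟩ ⟨t, htW⟩)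
  subst hWtop
  have e : f = g ≫ (Scheme.topIso T).inv ≫ k := by
    have h1 : g ≫ (Scheme.topIso T).inv = (Scheme.topIso X).inv ≫ (g ∣_ ⊤) := by
      rw [← cancel_mono (⊤ : T.Opens).ι, Category.assoc, Category.assoc]
      erw [morphismRestrict_ι]
      simp
    rw [reassoc_of% h1]
    erw [← hk]
    simp
  haveI : Epi g := Flat.epi_of_flat_of_surjective g
  refine ⟨_, ?_, e⟩
  rw [← cancel_epi g, ← hf, e]
  simp only [Category.assoc]

end GrothLib.Rigid27

namespace GrothLib.Rigid27

open GrothLib.Rigidity

variable {S : Scheme.{u}}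

/-- Quotient of two maps agreeing on one fibre collapses the fibre. -/
theorem collapse (X G : Over S) [GrpObj G] (d : X ⟶ G) (s : S)
    (h : Limits.pullback.fst X.hom (S.fromSpecResidueField s) ≫ d.left =
      Limits.pullback.fst X.hom (S.fromSpecResidueField s) ≫ (1 : X ⟶ G).left)
    (x x' : X.left) (hx : X.hom x = s) (hx' : X.hom x' = s) : d.left x = d.left x' := by
  have key : ∀ y : X.left, X.hom y = s → d.left y = η[G].left s := by
    intro y hy
    obtain ⟨w, hw, -⟩ := Scheme.Pullback.exists_preimage_pullback (f := X.hom)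
      (g := S.fromSpecResidueField s) y (IsLocalRing.closedPoint (S.residueField s))
      (by rw [hy, Scheme.fromSpecResidueField_apply])
    subst hw
    have h' := congrArg (fun z => z w) h
    simp only [Scheme.Hom.comp_apply] at h'
    rw [h', ← toUnit_comp_one', Over.comp_left, Scheme.Hom.comp_apply, toUnit_left, hy]
  rw [key x hx, key x' hx']

theorem connectedSpace_fiber_of_geomFibre (X : Over S) (s : S) (h : ConnectedSpace (Red.geomFibre s X).left) :
    ConnectedSpace ↥(X.hom.fiber s) := by
  let a := Spec.map (CommRingCat.ofHom (algebraMap (S.residueField s) (AlgebraicClosure (S.residueField s))))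
  haveI : Surjective a := ⟨fun x => ⟨IsLocalRing.closedPoint (AlgebraicClosure (S.residueField s)),
    Subsingleton.elim (α := PrimeSpectrum (S.residueField s)) _ _⟩⟩
  let l : pullback X.hom (a ≫ S.fromSpecResidueField s) ⟶ pullback X.hom (S.fromSpecResidueField s) :=
    (pullbackLeftPullbackSndIso X.hom (S.fromSpecResidueField s) a).inv ≫ pullback.fst _ a
  haveI : Surjective l := inferInstance
  haveI : ConnectedSpace ↥(pullback X.hom (a ≫ S.fromSpecResidueField s)) := h
  exact Function.Surjective.connectedSpace l.surjective l.continuous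

end GrothLib.Rigid27
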