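import Groth.Agent.Lib.Rigid27.SectionLocal
import Groth.Agent.Lib.LocNoeth.Scheme
import Groth.Agent.Lib.FFDesc.Basic
import Mathlib.AlgebraicGeometry.Morphisms.UniversallyOpen

/-!
# Rigidity for flat closed maps with a section
-/

set_option autoImplicit false

universe u

open CategoryTheory CategoryTheory.Limits AlgebraicGeometry IsLocalRing Opposite TopologicalSpace

namespace GrothLib.Rigid27

open GrothLib.Rigidity

variable {X S Y : Scheme.{u}}

theorem eq_on_of_appLE_eq {V : Y.Opens} (hV : IsAffineOpen V) {W : X.Opens} (f f' : X ⟶ Y)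
    (e : W ≤ f ⁻¹ᵁ V) (e' : W ≤ f' ⁻¹ᵁ V) (h : f.appLE V W e = f'.appLE V W e') : W.ι ≫ f = W.ι ≫ f' := by
  have key : ∀ (V' : Y.Opens) (W' : X.Opens) (_ : V' = V) (_ : W' = W) (e₁ : W' ≤ f ⁻¹ᵁ V')
      (e₂ : W' ≤ f' ⁻¹ᵁ V'), f.appLE V' W' e₁ = f'.appLE V' W' e₂ := by
    intro V' W' hV' hW' e₁ e₂
    subst hV' hW'
    exact h
  haveI : IsAffine (V : Scheme.{u}) := hV
  have h' : f.resLE V W e = f'.resLE V W e' := by
    refine ext_of_isAffine ?_
    rw [Scheme.Hom.appTop, Scheme.Hom.appTop, Scheme.Hom.app_eq_appLE, Scheme.Hom.app_eq_appLE,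
      Scheme.Hom.resLE_appLE, Scheme.Hom.resLE_appLE]
    exact key _ _ V.ι_image_top W.ι_image_top _ _
  rw [← Scheme.Hom.resLE_comp_ι f e, ← Scheme.Hom.resLE_comp_ι f' e', h']

variable [IsLocallyNoetherian S] [IsLocallyNoetherian X] (p : X ⟶ S) [Flat p] (e : S ⟶ X) (he : e ≫ p = 𝟙 S)
  (f : X ⟶ Y)
include he

/-- Near a collapsed fibre `f` is `f ∘ e ∘ p`. -/
theorem exists_open_eq (hp : IsClosedMap p.base)
    (h0 : ∀ s : S, Function.Surjective (pullback.snd p (S.fromSpecResidueField s)).appTop)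
    (s : S) (hs : ∀ x, p x = s → f x = f (e s)) :
    ∃ U : S.Opens, s ∈ U ∧ (p ⁻¹ᵁ U).ι ≫ f = (p ⁻¹ᵁ U).ι ≫ p ≫ e ≫ f := by
  obtain ⟨V, hV, hyV, -⟩ := exists_isAffineOpen_mem_and_subset (x := f (e s)) (U := (⊤ : Y.Opens)) trivial
  let U₁ : S.Opens := ⟨(p '' ((f ⁻¹' (V : Set Y))ᶜ))ᶜ, (hp _ (V.2.preimage f.continuous).isClosed_compl).isOpen_compl⟩
  have hsU₁ : s ∈ U₁ := by
    rintro ⟨x, hx, rfl⟩
    refine hx ?_
    show f x ∈ V
    rw [hs x rfl]; exact hyV
  set P := p ⁻¹ᵁ U₁ with hP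
  have hPf : P ≤ f ⁻¹ᵁ V := fun x hx => by_contra fun hxV => hx ⟨x, hxV, rfl⟩
  have hpe : ∀ t : S, p (e t) = t := fun t => by rw [← Scheme.Hom.comp_apply, he]; rfl
  have hPf' : P ≤ (p ≫ e ≫ f) ⁻¹ᵁ V := fun x hx => by
    show f (e (p x)) ∈ V
    exact hPf (show p (e (p x)) ∈ U₁ by rw [hpe]; exact hx)
  -- the base change to the local ring
  let ℓ := S.fromSpecStalk s
  haveI : Flat ℓ := GrothLib.FFDesc.flat_fromSpecStalk' S s
  let q := pullback.fst p ℓ
  haveI : IsPreimmersion q := MorphismProperty.pullback_fst _ _ inferInstance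
  let σ' : Spec (S.presheaf.stalk s) ⟶ pullback p ℓ :=
    pullback.lift (ℓ ≫ e) (𝟙 _) (by rw [Category.assoc, he]; simp)
  have hqP : (⊤ : (pullback p ℓ).Opens) ≤ q ⁻¹ᵁ P := by
    intro z _
    show p (q z) ∈ U₁
    rw [← Scheme.Hom.comp_apply, pullback.condition, Scheme.Hom.comp_apply]
    have h1 : ℓ (pullback.snd p ℓ z) ∈ Set.range ℓ := Set.mem_range_self _
    rw [Scheme.range_fromSpecStalk] at h1
    exact h1.mem_open U₁.2 hsU₁
  have hconst : Function.Surjective (pullback.snd (pullback.snd p ℓ)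
      (Spec.map (CommRingCat.ofHom (IsLocalRing.residue (S.presheaf.stalk s))))).appTop := by
    let r := Spec.map (CommRingCat.ofHom (IsLocalRing.residue (S.presheaf.stalk s)))
    let i := pullbackLeftPullbackSndIso p ℓ r
    have h1 : i.hom ≫ pullback.snd p (r ≫ ℓ) = pullback.snd (pullback.snd p ℓ) r :=
      pullbackLeftPullbackSndIso_hom_snd p ℓ r
    have h2 : (pullback.snd p (r ≫ ℓ)).appTop ≫ i.hom.appTop = (pullback.snd (pullback.snd p ℓ) r).appTop := by
      rw [← h1, Scheme.Hom.comp_appTop]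
    haveI : IsIso i.hom.appTop := inferInstanceAs (IsIso (i.hom.app ⊤))
    intro β
    obtain ⟨γ₁, hγ⟩ := (((ConcreteCategory.isIso_iff_bijective i.hom.appTop).mp inferInstance).2.comp (h0 s)) β
    exact ⟨γ₁, (congrArg (fun k => k γ₁) h2).symm.trans hγ⟩
  have hzero : ∀ (b : Γ(Y, V)) (x : X) (hx : p x = s),
      X.presheaf.germ P x (show p x ∈ U₁ by rw [hx]; exact hsU₁) (f.appLE V P hPf b - (p ≫ e ≫ f).appLE V P hPf' b) = 0 := by
    intro b x hx
    obtain ⟨z, hz₁, hz₂⟩ := Scheme.Pullback.exists_preimage_pullback (f := p) (g := ℓ) x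
      (IsLocalRing.closedPoint (S.presheaf.stalk s)) (by rw [hx, Scheme.fromSpecStalk_closedPoint])
    subst hz₁
    have hx' : q z ∈ P := show p (q z) ∈ U₁ by rw [hx]; exact hsU₁
    haveI : IsNoetherianRing ((pullback p ℓ).presheaf.stalk z) :=
      isNoetherianRing_of_surjective _ _ (q.stalkMap z).hom (q.stalkMap_surjective z)
    set a := f.appLE V P hPf b - (p ≫ e ≫ f).appLE V P hPf' b
    have h1 := germ_eq_zero_of_section (pullback.snd p ℓ) σ' (pullback.lift_snd _ _ _) hconst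
      (q.appLE P ⊤ hqP a) (by
        have hσ : σ' ≫ q = ℓ ≫ e := pullback.lift_fst _ _ _
        have h2 : σ'.appTop (q.appLE P ⊤ hqP a) = (σ' ≫ q).appLE P ⊤ (fun w _ => hqP (show σ' w ∈ ⊤ from trivial)) a := by
          have h4 : σ'.appTop = σ'.appLE ⊤ ⊤ le_top := by simp [Scheme.Hom.appLE, Scheme.Hom.appTop]
          rw [h4, ← CommRingCat.comp_apply, Scheme.Hom.appLE_comp_appLE]
        rw [h2, map_sub, ← CommRingCat.comp_apply, ← CommRingCat.comp_apply, Scheme.Hom.appLE_comp_appLE,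
          Scheme.Hom.appLE_comp_appLE, sub_eq_zero]
        have h3 : ∀ (k k' : Spec (S.presheaf.stalk s) ⟶ Y) (o o'), k = k' →
            k.appLE V ⊤ o b = k'.appLE V ⊤ o' b := by
          intro k k' o o' hk; subst hk; rfl
        refine h3 _ _ _ _ ?_
        rw [hσ]; simp only [Category.assoc, reassoc_of% he]) z hz₂
    refine stalkMap_injective_of_flat q z ?_
    rw [map_zero, Scheme.Hom.germ_stalkMap_apply]
    rw [Scheme.Hom.appLE, CommRingCat.comp_apply, TopCat.Presheaf.germ_res_apply] at h1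
    exact h1
  have hlocal : ∀ x : X, p x = s → ∃ W : X.Opens, x ∈ W ∧ W.ι ≫ f = W.ι ≫ p ≫ e ≫ f := by
    intro x hx
    obtain ⟨W, hW, hxW, hWP⟩ := exists_isAffineOpen_mem_and_subset
      (x := x) (U := P) (show p x ∈ U₁ by rw [hx]; exact hsU₁)
    replace hWP : W ≤ P := hWP
    haveI : IsNoetherianRing Γ(X, W) := IsLocallyNoetherian.component_noetherian ⟨W, hW⟩
    let δ : Γ(Y, V) → Γ(X, W) := fun b =>
      f.appLE V W (hWP.trans hPf) b - (p ≫ e ≫ f).appLE V W (hWP.trans hPf') b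
    have hδ : ∀ b, X.presheaf.germ W x hxW (δ b) = 0 := by
      intro b
      have h2 : δ b = X.presheaf.map (homOfLE hWP).op (f.appLE V P hPf b - (p ≫ e ≫ f).appLE V P hPf' b) := by
        rw [map_sub, ← CommRingCat.comp_apply, ← CommRingCat.comp_apply, Scheme.Hom.appLE_map,
          Scheme.Hom.appLE_map]
      rw [h2, TopCat.Presheaf.germ_res_apply]
      exact hzero b x hx
    obtain ⟨G, hG⟩ := (IsNoetherian.noetherian (Ideal.span (Set.range δ)) : (Ideal.span (Set.range δ)).FG)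
    have hG0 : ∀ g : ↥(G : Set Γ(X, W)), X.presheaf.germ W x hxW g.1 = 0 := by
      intro g
      have hle : Ideal.span (Set.range δ) ≤ RingHom.ker (X.presheaf.germ W x hxW).hom :=
        Ideal.span_le.mpr (by rintro _ ⟨b, rfl⟩; exact hδ b)
      exact hle (hG ▸ Ideal.subset_span g.2)
    choose W₁ hxW₁ i₁ i₁' hW₁ using fun g : ↥(G : Set Γ(X, W)) =>
      X.presheaf.germ_eq x hxW hxW g.1 0 ((hG0 g).trans (map_zero _).symm)
    haveI : Finite ↥(G : Set Γ(X, W)) := G.finite_toSet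
    obtain ⟨W₂, hxW₂, hW₂⟩ : ∃ W₂ : X.Opens, x ∈ W₂ ∧ ∀ g, W₂ ≤ W ⊓ W₁ g := by
      refine ⟨⟨(W : Set X) ∩ ⋂ g, (W₁ g : Set X), W.2.inter (isOpen_iInter_of_finite fun g => (W₁ g).2)⟩,
        ⟨hxW, Set.mem_iInter.mpr hxW₁⟩, fun g => ?_⟩
      exact fun y hy => ⟨hy.1, Set.mem_iInter.mp hy.2 g⟩
    refine ⟨W₂ ⊓ W, ⟨hxW₂, hxW⟩, eq_on_of_appLE_eq hV f (p ≫ e ≫ f)
      (inf_le_right.trans (hWP.trans hPf)) (inf_le_right.trans (hWP.trans hPf')) ?_⟩
    ext b
    rw [← Scheme.Hom.appLE_map f (hWP.trans hPf) (homOfLE inf_le_right : W₂ ⊓ W ⟶ W).op,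
      ← Scheme.Hom.appLE_map (p ≫ e ≫ f) (hWP.trans hPf') (homOfLE inf_le_right : W₂ ⊓ W ⟶ W).op,
      CommRingCat.comp_apply, CommRingCat.comp_apply, ← sub_eq_zero, ← map_sub]
    have hle : Ideal.span (Set.range δ) ≤
        RingHom.ker (X.presheaf.map (homOfLE inf_le_right : W₂ ⊓ W ⟶ W).op).hom := by
      rw [← hG, Ideal.span_le]
      intro g hg
      have h4 := congrArg (X.presheaf.map (homOfLE ((inf_le_left.trans ((hW₂ ⟨g, hg⟩).trans inf_le_right))) :
        W₂ ⊓ W ⟶ W₁ ⟨g, hg⟩).op) (hW₁ ⟨g, hg⟩)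
      rw [map_zero, map_zero, ← CommRingCat.comp_apply, ← X.presheaf.map_comp] at h4
      exact h4
    exact hle (Ideal.subset_span ⟨b, rfl⟩)
  choose W hxW hW using fun x : {x // p x = s} => hlocal x.1 x.2
  let O : X.Opens := ⨆ x, W x
  let U : S.Opens := ⟨(p '' (O : Set X)ᶜ)ᶜ, (hp _ O.2.isClosed_compl).isOpen_compl⟩
  refine ⟨U, ?_, ?_⟩
  · rintro ⟨x, hx, hxs⟩
    exact hx (TopologicalSpace.Opens.mem_iSup.mpr ⟨⟨x, hxs⟩, hxW _⟩)
  · have hcov : IsOpenCover fun x => (p ⁻¹ᵁ U).ι ⁻¹ᵁ W x := by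
      refine TopologicalSpace.Opens.ext (Set.eq_univ_of_forall fun z => ?_)
      have : z.1 ∈ O := by_contra fun h => z.2 ⟨z.1, h, rfl⟩
      obtain ⟨i, hi⟩ := TopologicalSpace.Opens.mem_iSup.mp this
      exact TopologicalSpace.Opens.mem_iSup.mpr ⟨i, hi⟩
    refine Scheme.Cover.hom_ext ((p ⁻¹ᵁ U : Scheme.{u}).openCoverOfIsOpenCover _ hcov) _ _ fun x => ?_
    have hfac : ((p ⁻¹ᵁ U).ι ⁻¹ᵁ W x).ι ≫ (p ⁻¹ᵁ U).ι = ((p ⁻¹ᵁ U).ι ∣_ W x) ≫ (W x).ι :=
      (morphismRestrict_ι _ _).symm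
    change ((p ⁻¹ᵁ U).ι ⁻¹ᵁ W x).ι ≫ _ = ((p ⁻¹ᵁ U).ι ⁻¹ᵁ W x).ι ≫ _
    rw [reassoc_of% hfac, reassoc_of% hfac, hW x]

/-- Rigidity for a flat closed map with a section. -/
theorem eq_of_section_of_closedMap [PreconnectedSpace S] (hp : IsClosedMap p.base)
    (h0 : ∀ s : S, Function.Surjective (pullback.snd p (S.fromSpecResidueField s)).appTop)
    (q : Y ⟶ S) [IsSeparated q] (hf : f ≫ q = p)
    (s : S) (hs : ∀ x x', p x = s → p x' = s → f x = f x') : f = p ≫ e ≫ f := by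
  have hpe : ∀ t : S, p (e t) = t := fun t => by rw [← Scheme.Hom.comp_apply, he]; rfl
  let C : Set S := {t | ∀ x, p x = t → f x = f (e t)}
  have hC : IsOpen C := by
    rw [isOpen_iff_forall_mem_open]
    intro t ht
    obtain ⟨U, htU, hU⟩ := exists_open_eq p e he f hp h0 t ht
    refine ⟨U, fun t' ht' x hx => ?_, U.2, htU⟩
    subst hx
    exact congrArg (fun k => k ⟨x, ht'⟩) hU
  have hCspec : ∀ t' t : S, t' ⤳ t → t' ∈ C → t ∈ C := by
    intro t' t htt ht' x hx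
    subst hx
    obtain ⟨x', hx'x, hx'⟩ := Flat.generalizingMap p htt
    obtain ⟨U, htU, hU⟩ := exists_open_eq p e he f hp h0 t' ht'
    let pair : X ⟶ pullback q q := pullback.lift f (p ≫ e ≫ f) (by simp only [Category.assoc, hf, he, Category.comp_id])
    let Z := Set.range (pullback.snd (pullback.diagonal q) pair)
    have hZc : IsClosed Z := (pullback.snd (pullback.diagonal q) pair).isClosedEmbedding.isClosed_range
    have hx'Z : x' ∈ Z := by
      have h1 : (p ⁻¹ᵁ U).ι ≫ pair = ((p ⁻¹ᵁ U).ι ≫ f) ≫ pullback.diagonal q := by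
        apply pullback.hom_ext
        · rw [Category.assoc, Category.assoc, pullback.diagonal_fst]
          erw [pullback.lift_fst, Category.comp_id]
        · rw [Category.assoc, Category.assoc, pullback.diagonal_snd]
          erw [pullback.lift_snd, Category.comp_id]
          exact hU.symm
      have hx'U : x' ∈ p ⁻¹ᵁ U := show p x' ∈ U from hx' ▸ htU
      refine ⟨pullback.lift ((p ⁻¹ᵁ U).ι ≫ f) (p ⁻¹ᵁ U).ι h1.symm ⟨x', hx'U⟩, ?_⟩
      rw [← Scheme.Hom.comp_apply, pullback.lift_snd]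
      rfl
    obtain ⟨w, hw⟩ := hx'x.mem_closed hZc hx'Z
    have h2 := congrArg (fun k => k ≫ pullback.fst q q) (pullback.condition (f := pullback.diagonal q) (g := pair))
    have h3 := congrArg (fun k => k ≫ pullback.snd q q) (pullback.condition (f := pullback.diagonal q) (g := pair))
    simp only [Category.assoc, pullback.diagonal_fst, pullback.diagonal_snd, Category.comp_id, pair,
      pullback.lift_fst, pullback.lift_snd] at h2 h3
    have h4 := congrArg (fun k => k w) (h2.symm.trans h3)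
    simp only [Scheme.Hom.comp_apply] at h4
    rw [hw] at h4
    exact h4
  have hCc : IsClosed C := by
    refine isClosed_of_closure_subset fun t ht => ?_
    obtain ⟨z, hz⟩ := GrothLib.LocNoeth.exists_specializes_of_mem_closure_range
      (Scheme.Opens.ι (⟨C, hC⟩ : S.Opens)) (by rwa [Scheme.Opens.range_ι])
    exact hCspec _ t hz z.2
  have hC1 : C = Set.univ := IsClopen.eq_univ ⟨hCc, hC⟩ ⟨s, fun x hx => hs x (e s) hx (hpe s)⟩
  choose U hsU hU using fun t : S => exists_open_eq p e he f hp h0 t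
    (show t ∈ C from hC1 ▸ Set.mem_univ t)
  have hcov : IsOpenCover fun t => p ⁻¹ᵁ U t :=
    TopologicalSpace.Opens.ext (Set.eq_univ_of_forall fun x =>
      TopologicalSpace.Opens.mem_iSup.mpr ⟨p x, hsU (p x)⟩)
  exact Scheme.Cover.hom_ext (X.openCoverOfIsOpenCover _ hcov) _ _ fun t => hU t

end GrothLib.Rigid27
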