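import Groth.Agent.Lib.Rigid27.Basic
import Mathlib.RingTheory.Filtration

/-!
# Functions vanishing along a section of a flat scheme over a local ring, without finiteness

For `X → Spec R` flat, `R` local Noetherian, with all functions on the closed fibre constant, a
function vanishing along a section lies in every power of the maximal ideal on every affine open,
hence vanishes in the Noetherian stalks over the closed point.
-/

set_option autoImplicit false

universe u

open CategoryTheory CategoryTheory.Limits AlgebraicGeometry IsLocalRing Opposite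
open scoped TensorProduct

namespace GrothLib.Rigid27

open GrothLib.Rigidity

section Algebra

variable {R A : Type u} [CommRing R] [IsLocalRing R] [CommRing A] [Algebra R A]

theorem exists_tensor_eq (I : Ideal R) (x : A) (hx : x ∈ I.map (algebraMap R A)) :
    ∃ z : ↥I ⊗[R] A, TensorProduct.lid R A ((Submodule.subtype I).rTensor A z) = x := by
  induction hx using Submodule.span_induction with
  | mem x hx =>
    obtain ⟨r, hr, rfl⟩ := hx
    exact ⟨⟨r, hr⟩ ⊗ₜ 1, by simp [Algebra.smul_def]⟩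
  | zero => exact ⟨0, by simp⟩
  | add x y _ _ hx hy =>
    obtain ⟨z, hz⟩ := hx
    obtain ⟨z', hz'⟩ := hy
    exact ⟨z + z', by simp [hz, hz']⟩
  | smul c x _ hx =>
    obtain ⟨z, hz⟩ := hx
    refine ⟨(LinearMap.mulLeft R c).lTensor _ z, ?_⟩
    rw [← hz]
    clear hz
    induction z with
    | zero => simp
    | tmul a b => simp
    | add a b ha hb => simp only [map_add, smul_eq_mul, mul_add] at *; rw [ha, hb]

/-- Coefficients of a relation in `𝔪ⁿA` modulo `𝔪ⁿ⁺¹A` lie in `𝔪A`, for `A` flat. -/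
theorem coeff_mem_of_sum_mem [Module.Flat R A] (n : ℕ) {l : ℕ} (d : Fin l → ↥(maximalIdeal R ^ n))
    (χ : Fin l → ↥(maximalIdeal R ^ n) →ₗ[R] R ⧸ maximalIdeal R)
    (hχ : ∀ i j, χ i (d j) = if i = j then 1 else 0) (c : Fin l → A)
    (h : ∑ j, algebraMap R A (d j) * c j ∈ (maximalIdeal R ^ (n + 1)).map (algebraMap R A)) (i : Fin l) :
    c i ∈ (maximalIdeal R).map (algebraMap R A) := by
  classical
  obtain ⟨z, hz⟩ := exists_tensor_eq _ _ h
  let incl : ↥(maximalIdeal R ^ (n + 1)) →ₗ[R] ↥(maximalIdeal R ^ n) :=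
    Submodule.inclusion (Ideal.pow_le_pow_right n.le_succ)
  let μ : ↥(maximalIdeal R ^ n) ⊗[R] A →ₗ[R] A :=
    (TensorProduct.lid R A).toLinearMap ∘ₗ (Submodule.subtype (maximalIdeal R ^ n)).rTensor A
  have hμ : Function.Injective μ :=
    (TensorProduct.lid R A).injective.comp
      (Module.Flat.rTensor_preserves_injective_linearMap _ (Submodule.injective_subtype _))
  have ht : (∑ j, d j ⊗ₜ[R] c j) = incl.rTensor A z := by
    apply hμ
    have e : μ (incl.rTensor A z) =
        TensorProduct.lid R A ((Submodule.subtype (maximalIdeal R ^ (n + 1))).rTensor A z) := by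
      simp only [μ, LinearMap.comp_apply, LinearEquiv.coe_coe, ← LinearMap.rTensor_comp_apply]
      rfl
    rw [e, hz, map_sum]
    simp [μ, Algebra.smul_def]
  let Q := A ⧸ (maximalIdeal R).map (algebraMap R A)
  let ψ : (R ⧸ maximalIdeal R) →ₐ[R] Q :=
    Ideal.Quotient.liftₐ (maximalIdeal R) (Algebra.ofId R Q) (fun r hr => by
      rw [Algebra.ofId_apply, IsScalarTower.algebraMap_apply R A Q, Ideal.Quotient.algebraMap_eq,
        Ideal.Quotient.eq_zero_iff_mem]
      exact Ideal.mem_map_of_mem _ hr)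
  let F : ↥(maximalIdeal R ^ n) ⊗[R] A →ₗ[R] Q :=
    LinearMap.mul' R Q ∘ₗ TensorProduct.map (ψ.toLinearMap ∘ₗ χ i) (Ideal.Quotient.mkₐ R _).toLinearMap
  have hkill : ∀ x : ↥(maximalIdeal R ^ (n + 1)), χ i (incl x) = 0 := by
    rintro ⟨x, hx⟩
    have hx' : x ∈ maximalIdeal R * maximalIdeal R ^ n := by rwa [← pow_succ']
    suffices ∀ hxn : x ∈ maximalIdeal R ^ n, χ i ⟨x, hxn⟩ = 0 from this _
    induction hx' using Submodule.mul_induction_on' with
    | mem_mul_mem r hr y hy =>
      intro hxn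
      rw [show (⟨r * y, hxn⟩ : ↥(maximalIdeal R ^ n)) = r • ⟨y, hy⟩ from rfl, map_smul]
      obtain ⟨w, hw⟩ := Ideal.Quotient.mk_surjective (χ i ⟨y, hy⟩)
      rw [← hw, Algebra.smul_def, Ideal.Quotient.algebraMap_eq, ← map_mul, Ideal.Quotient.eq_zero_iff_mem]
      exact Ideal.mul_mem_right _ _ hr
    | add a ha b hb iha ihb =>
      intro hxn
      have ha' : a ∈ maximalIdeal R ^ n := Ideal.mul_le_right ha
      have hb' : b ∈ maximalIdeal R ^ n := Ideal.mul_le_right hb
      rw [show (⟨a + b, hxn⟩ : ↥(maximalIdeal R ^ n)) = ⟨a, ha'⟩ + ⟨b, hb'⟩ from rfl, map_add,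
        iha (by rwa [← pow_succ'] at ha) ha', ihb (by rwa [← pow_succ'] at hb) hb', add_zero]
  have h1 : F (∑ j, d j ⊗ₜ[R] c j) = Ideal.Quotient.mk _ (c i) := by
    rw [map_sum, Finset.sum_eq_single i]
    · simp [F, hχ]
    · intro j _ hj; simp [F, hχ, Ne.symm hj]
    · simp
  have h2 : F (incl.rTensor A z) = 0 := by
    clear ht hz
    induction z with
    | zero => simp
    | tmul a b => simp [F, hkill]
    | add a b ha hb => rw [map_add, map_add, ha, hb, add_zero]
  rw [ht, h2] at h1
  exact Ideal.Quotient.eq_zero_iff_mem.mp h1.symm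

theorem exists_decomp (n : ℕ) {l : ℕ} (d : Fin l → ↥(maximalIdeal R ^ n))
    (hd : maximalIdeal R ^ n ≤ Ideal.span (Set.range fun j => (d j : R)) ⊔ maximalIdeal R ^ (n + 1))
    (x : A) (hx : x ∈ (maximalIdeal R ^ n).map (algebraMap R A)) :
    ∃ c : Fin l → A, x - ∑ j, algebraMap R A (d j) * c j ∈ (maximalIdeal R ^ (n + 1)).map (algebraMap R A) := by
  have hx' := Ideal.map_mono hd hx
  rw [Ideal.map_sup, Ideal.map_span, Submodule.mem_sup] at hx'
  obtain ⟨y, hy, z, hz, rfl⟩ := hx'
  rw [← Set.range_comp] at hy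
  obtain ⟨c, hc⟩ := (Submodule.mem_span_range_iff_exists_fun A).mp hy
  refine ⟨c, ?_⟩
  have : (∑ j, algebraMap R A (d j) * c j) = y := by
    rw [← hc]; simp [mul_comm]
  rwa [this, add_sub_cancel_left]

end Algebra

/-- A function vanishing on a section vanishes in the Noetherian stalks over the closed point, as soon as
`X` is flat and the functions on the closed fibre are constants. -/
theorem germ_eq_zero_of_section {X : Scheme.{u}} {R : CommRingCat.{u}} [IsLocalRing R] [IsNoetherianRing R]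
    (f : X ⟶ Spec R) [Flat f] (σ : Spec R ⟶ X) (hσ : σ ≫ f = 𝟙 _)
    (hconst : Function.Surjective (pullback.snd f (Spec.map (CommRingCat.ofHom (IsLocalRing.residue R)))).appTop)
    (a : Γ(X, ⊤)) (ha : σ.appTop a = 0) (x : X) (hx : f x = IsLocalRing.closedPoint R)
    [IsNoetherianRing (X.presheaf.stalk x)] :
    X.presheaf.germ ⊤ x trivial a = 0 := by
  let φ : ∀ V : X.Opens, R →+* Γ(X, V) := fun V =>
    ((Scheme.ΓSpecIso R).inv ≫ f.appLE ⊤ V le_top).hom
  letI : ∀ V : X.Opens, Algebra R Γ(X, V) := fun V => (φ V).toAlgebra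
  have hφres : ∀ {V W : X.Opens} (h : W ≤ V) (t : R),
      X.presheaf.map (homOfLE h).op (φ V t) = φ W t := fun {V W} h t => by
    show ((Scheme.ΓSpecIso R).inv ≫ f.appLE ⊤ V le_top ≫ X.presheaf.map (homOfLE h).op) t = _
    rw [Scheme.Hom.appLE_map]
  have hFlat : ∀ {V : X.Opens}, IsAffineOpen V → Module.Flat R Γ(X, V) := fun hV =>
    RingHom.Flat.comp (RingHom.Flat.of_bijective
        (Scheme.ΓSpecIso R).commRingCatIsoToRingEquiv.symm.bijective)
      (f.flat_appLE (isAffineOpen_top _) hV le_top)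
  let res : R ⟶ CommRingCat.of (IsLocalRing.ResidueField R) := CommRingCat.ofHom (IsLocalRing.residue R)
  let j := pullback.fst f (Spec.map res)
  let g := pullback.snd f (Spec.map res)
  have hkill : ∀ (V : X.Opens) (z : Γ(X, V)),
      z ∈ (maximalIdeal R).map (algebraMap R Γ(X, V)) → j.app V z = 0 := by
    intro V z hz
    suffices (maximalIdeal R).map (algebraMap R Γ(X, V)) ≤ RingHom.ker (j.app V).hom from this hz
    rw [Ideal.map_le_iff_le_comap]
    intro t ht
    show ((Scheme.ΓSpecIso R).inv ≫ f.appLE ⊤ V le_top ≫ j.app V) t = 0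
    rw [Scheme.Hom.app_eq_appLE, Scheme.Hom.appLE_comp_appLE]
    have h1 : ∀ (h : pullback f (Spec.map res) ⟶ Spec R) (e), h = g ≫ Spec.map res →
        ((Scheme.ΓSpecIso R).inv ≫ h.appLE ⊤ (j ⁻¹ᵁ V) e) t = 0 := by
      intro h e hh
      subst hh
      rw [← Scheme.Hom.appLE_comp_appLE _ _ _ ⊤ _ le_top le_top]
      have : (Spec.map res).appLE ⊤ ⊤ le_top = (Spec.map res).appTop := by
        simp [Scheme.Hom.appLE, Scheme.Hom.appTop]
      rw [this, ← Category.assoc, ← Scheme.ΓSpecIso_inv_naturality]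
      simp only [CommRingCat.comp_apply, res, CommRingCat.hom_ofHom,
        (IsLocalRing.residue_eq_zero_iff t).mpr ht, map_zero]
    exact h1 _ _ pullback.condition
  have hker : ∀ {W : X.Opens}, IsAffineOpen W → ∀ z : Γ(X, W), j.app W z = 0 →
      z ∈ (maximalIdeal R).map (algebraMap R Γ(X, W)) := by
    intro W hW z hz
    set I := (maximalIdeal R).map (algebraMap R Γ(X, W)) with hI
    let π : Γ(X, W) ⟶ CommRingCat.of (Γ(X, W) ⧸ I) := CommRingCat.ofHom (Ideal.Quotient.mk I)
    let kA : CommRingCat.of (IsLocalRing.ResidueField R) ⟶ CommRingCat.of (Γ(X, W) ⧸ I) :=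
      CommRingCat.ofHom (Ideal.Quotient.lift (maximalIdeal R) ((Ideal.Quotient.mk I).comp (φ W))
        fun r hr => Ideal.Quotient.eq_zero_iff_mem.mpr (Ideal.mem_map_of_mem _ hr))
    have hcond : (Spec.map π ≫ hW.fromSpec) ≫ f = Spec.map kA ≫ Spec.map res := by
      rw [Category.assoc, ← (isAffineOpen_top (Spec R)).SpecMap_appLE_fromSpec f hW le_top,
        IsAffineOpen.fromSpec_top, Scheme.isoSpec_Spec_inv, ← Spec.map_comp, ← Spec.map_comp,
        ← Spec.map_comp]
      congr 1
    let l := pullback.lift (Spec.map π ≫ hW.fromSpec) (Spec.map kA) hcond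
    have hl : l ≫ j = Spec.map π ≫ hW.fromSpec := pullback.lift_fst _ _ _
    have hle : (⊤ : (Spec (CommRingCat.of (Γ(X, W) ⧸ I))).Opens) ≤ (l ≫ j) ⁻¹ᵁ W := by
      rw [hl, Scheme.Hom.comp_preimage, IsAffineOpen.fromSpec_preimage_self]
      exact le_rfl
    have h4 : (l ≫ j).appLE W ⊤ hle z = 0 := by
      rw [Scheme.Hom.comp_appLE, CommRingCat.comp_apply, hz, map_zero]
    have h5 : ∀ (h : Spec (CommRingCat.of (Γ(X, W) ⧸ I)) ⟶ X) (e : (⊤ : TopologicalSpace.Opens _) ≤ h ⁻¹ᵁ W),
        h = Spec.map π ≫ hW.fromSpec → h.appLE W ⊤ e = π ≫ (Scheme.ΓSpecIso _).inv := by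
      intro h e hh
      subst hh
      rw [Scheme.Hom.comp_appLE, IsAffineOpen.fromSpec_app_self, Category.assoc,
        Scheme.Hom.map_appLE, Scheme.ΓSpecIso_inv_naturality]
      simp [Scheme.Hom.appLE, Scheme.Hom.appTop]
    rw [h5 _ hle hl] at h4
    exact Ideal.Quotient.eq_zero_iff_mem.mp
      ((Scheme.ΓSpecIso (CommRingCat.of (Γ(X, W) ⧸ I))).symm.commRingCatIsoToRingEquiv.injective
        (h4.trans (map_zero _).symm))
  let aA : ∀ W : X.Opens, Γ(X, W) := fun W => X.presheaf.map (homOfLE le_top).op a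
  have haA : ∀ {V W : X.Opens} (h : W ≤ V), X.presheaf.map (homOfLE h).op (aA V) = aA W := fun h =>
    ringHom_map_comp (U := (⊤ : X.Opens)) le_top h a
  -- the section
  obtain ⟨W₀, hW₀, hσW₀, -⟩ := exists_isAffineOpen_mem_and_subset
    (x := σ (IsLocalRing.closedPoint R)) (U := (⊤ : X.Opens)) trivial
  have hσtop : (⊤ : (Spec R).Opens) ≤ σ ⁻¹ᵁ W₀ := (Scheme.preimage_eq_top_of_closedPoint_mem σ hσW₀).ge
  let ε : Γ(X, W₀) →+* R := (σ.appLE W₀ ⊤ hσtop ≫ (Scheme.ΓSpecIso R).hom).hom
  have hε : ∀ t : R, ε (φ W₀ t) = t := fun t => by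
    have h1 : ∀ (g : Spec R ⟶ Spec R), g = 𝟙 _ → g.appLE ⊤ ⊤ le_top = 𝟙 _ := fun g hg => by
      subst hg
      rw [Scheme.Hom.appLE]
      exact (Category.id_comp _).trans ((Spec R).presheaf.map_id _)
    show ((Scheme.ΓSpecIso R).inv ≫ (f.appLE ⊤ W₀ le_top ≫ σ.appLE W₀ ⊤ hσtop) ≫
      (Scheme.ΓSpecIso R).hom) t = t
    rw [Scheme.Hom.appLE_comp_appLE, h1 (σ ≫ f) hσ, Category.id_comp, Iso.inv_hom_id]
    rfl
  have hεa : ε (aA W₀) = 0 := by
    show (X.presheaf.map (homOfLE le_top).op ≫ σ.appLE W₀ ⊤ hσtop ≫ (Scheme.ΓSpecIso R).hom) a = 0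
    rw [Scheme.Hom.map_appLE_assoc]
    have : σ.appLE ⊤ ⊤ le_top = σ.appTop := by simp [Scheme.Hom.appLE, Scheme.Hom.appTop]
    rw [this, CommRingCat.comp_apply, ha, map_zero]
  -- induction on the thickening
  have main : ∀ (n : ℕ) (W : X.Opens), IsAffineOpen W →
      aA W ∈ (maximalIdeal R ^ n).map (algebraMap R Γ(X, W)) := by
    intro n
    induction n with
    | zero => intro W _; rw [pow_zero, Ideal.one_eq_top, Ideal.map_top]; trivial
    | succ n ih =>
      obtain ⟨l, d, χ, hχ, hd⟩ := exists_dualBasis (S := R) n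
      choose c hc using fun W : X.affineOpens => exists_decomp (A := Γ(X, W.1)) n d hd _ (ih W.1 W.2)
      have hc_unique : ∀ (W W' : X.affineOpens) (h : W'.1 ≤ W.1) (i : Fin l),
          X.presheaf.map (homOfLE h).op (c W i) - c W' i ∈ (maximalIdeal R).map (algebraMap R Γ(X, W'.1)) := by
        intro W W' h i
        haveI := hFlat W'.2
        refine coeff_mem_of_sum_mem n d χ hχ (fun i => X.presheaf.map (homOfLE h).op (c W i) - c W' i) ?_ i
        have h1 := hc W'
        have h2 := Ideal.mem_map_of_mem (X.presheaf.map (homOfLE h).op).hom (hc W)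
        rw [Ideal.map_map, show (X.presheaf.map (homOfLE h).op).hom.comp (algebraMap R Γ(X, W.1)) =
          algebraMap R Γ(X, W'.1) from RingHom.ext (hφres h), map_sub, map_sum, haA] at h2
        have h3 := Ideal.sub_mem _ h1 h2
        rw [sub_sub_sub_cancel_left] at h3
        convert h3 using 1
        rw [← Finset.sum_sub_distrib]
        refine Finset.sum_congr rfl fun i _ => ?_
        rw [mul_sub, map_mul]
        congr 2
        exact (hφres h _).symm
      have hglue : ∀ i : Fin l, ∃ β : Γ(pullback f (Spec.map res), ⊤), ∀ W : X.affineOpens,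
          (pullback f (Spec.map res)).presheaf.map (homOfLE le_top).op β = j.app W.1 (c W i) := by
        intro i
        let sec : ∀ W : X.affineOpens, Γ(pullback f (Spec.map res), j ⁻¹ᵁ W.1) := fun W => j.app W.1 (c W i)
        have hcompat : TopCat.Presheaf.IsCompatible (pullback f (Spec.map res)).presheaf
            (fun W : X.affineOpens => j ⁻¹ᵁ W.1) sec := by
          intro W W'
          refine (pullback f (Spec.map res)).sheaf.eq_of_locally_eq'
            (fun V : {V : X.affineOpens // V.1 ≤ W.1 ⊓ W'.1} => j ⁻¹ᵁ V.1.1) _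
            (fun V => homOfLE (j.preimage_mono V.2)) (fun y hy => ?_) _ _ (fun V => ?_)
          · obtain ⟨V, hV, hyV, hVle⟩ := exists_isAffineOpen_mem_and_subset
              (x := j y) (U := W.1 ⊓ W'.1) hy
            exact TopologicalSpace.Opens.mem_iSup.mpr ⟨⟨⟨V, hV⟩, hVle⟩, hyV⟩
          · have e1 := hkill _ _ (Ideal.sub_mem _ (hc_unique W V.1 (V.2.trans inf_le_left) i)
              (hc_unique W' V.1 (V.2.trans inf_le_right) i))
            rw [sub_sub_sub_cancel_right, map_sub, sub_eq_zero, app_map_apply, app_map_apply] at e1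
            exact (ringHom_map_comp _ _ _).trans (e1.trans (ringHom_map_comp _ _ _).symm)
        obtain ⟨β, hβ, -⟩ := (pullback f (Spec.map res)).sheaf.existsUnique_gluing'
          (fun W : X.affineOpens => j ⁻¹ᵁ W.1) ⊤ (fun W => homOfLE le_top)
          (fun y _ => by
            obtain ⟨V, hV, hyV, -⟩ := exists_isAffineOpen_mem_and_subset (x := j y) (U := (⊤ : X.Opens)) trivial
            exact TopologicalSpace.Opens.mem_iSup.mpr ⟨⟨V, hV⟩, hyV⟩) sec hcompat
        exact ⟨β, hβ⟩
      choose β hβ using hglue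
      have hconst' : ∀ i, ∃ t : R, β i = g.appTop ((Scheme.ΓSpecIso _).inv (IsLocalRing.residue R t)) := by
        intro i
        obtain ⟨q, hq⟩ := hconst (β i)
        obtain ⟨q', hq'⟩ := ((ConcreteCategory.isIso_iff_bijective (Scheme.ΓSpecIso _).inv).mp inferInstance).2 q
        obtain ⟨t, ht⟩ := IsLocalRing.residue_surjective q'
        exact ⟨t, by rw [ht, hq']; exact hq.symm⟩
      choose t ht using hconst'
      have hct : ∀ (W : X.affineOpens) (i : Fin l),
          c W i - algebraMap R Γ(X, W.1) (t i) ∈ (maximalIdeal R).map (algebraMap R Γ(X, W.1)) := by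
        intro W i
        refine hker W.2 _ ?_
        rw [map_sub, sub_eq_zero]
        refine (hβ i W).symm.trans ?_
        rw [ht]
        show ((Scheme.ΓSpecIso _).inv ≫ g.appTop ≫
          (pullback f (Spec.map res)).presheaf.map (homOfLE le_top).op) (IsLocalRing.residue R (t i)) = _
        have h1 : (g.appTop ≫ (pullback f (Spec.map res)).presheaf.map (homOfLE le_top).op) =
            g.appLE ⊤ (j ⁻¹ᵁ W.1) le_top := rfl
        rw [h1]
        show (res ≫ (Scheme.ΓSpecIso _).inv ≫ g.appLE ⊤ (j ⁻¹ᵁ W.1) le_top) (t i) =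
          ((Scheme.ΓSpecIso R).inv ≫ f.appLE ⊤ W.1 le_top ≫ j.app W.1) (t i)
        rw [Scheme.ΓSpecIso_inv_naturality_assoc, Scheme.Hom.app_eq_appLE, Scheme.Hom.appLE_comp_appLE]
        have h2 : (Spec.map res).appTop = (Spec.map res).appLE ⊤ ⊤ le_top := by
          simp [Scheme.Hom.appLE, Scheme.Hom.appTop]
        rw [h2, Scheme.Hom.appLE_comp_appLE]
        have h3 : ∀ (h h' : pullback f (Spec.map res) ⟶ Spec R) (e e'), h = h' →
            h.appLE ⊤ (j ⁻¹ᵁ W.1) e = h'.appLE ⊤ (j ⁻¹ᵁ W.1) e' := by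
          intro h h' e e' hh; subst hh; rfl
        rw [h3 _ _ _ _ pullback.condition.symm]
      let r : R := ∑ i, (d i : R) * t i
      have hr : ∀ W : X.affineOpens,
          aA W.1 - algebraMap R Γ(X, W.1) r ∈ (maximalIdeal R ^ (n + 1)).map (algebraMap R Γ(X, W.1)) := by
        intro W
        have h1 : ∀ i, algebraMap R Γ(X, W.1) (d i) * (c W i - algebraMap R Γ(X, W.1) (t i)) ∈
            (maximalIdeal R ^ (n + 1)).map (algebraMap R Γ(X, W.1)) := fun i => by
          rw [pow_succ, Ideal.map_mul]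
          exact Ideal.mul_mem_mul (Ideal.mem_map_of_mem _ (d i).2) (hct W i)
        have := Ideal.add_mem _ (hc W) (Ideal.sum_mem _ (t := Finset.univ) fun i _ => h1 i)
        convert this using 1
        simp only [r, map_sum, map_mul, mul_sub, Finset.sum_sub_distrib]
        ring
      have hrm : r ∈ maximalIdeal R ^ (n + 1) := by
        have := Ideal.mem_map_of_mem ε (hr ⟨W₀, hW₀⟩)
        rw [Ideal.map_map, show ε.comp (algebraMap R Γ(X, W₀)) = RingHom.id R from RingHom.ext hε,
          Ideal.map_id, map_sub, hεa, zero_sub, Ideal.neg_mem_iff] at this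
        rwa [show ε (algebraMap R Γ(X, W₀) r) = r from hε r] at this
      intro W hW
      have := Ideal.add_mem _ (hr ⟨W, hW⟩) (Ideal.mem_map_of_mem (algebraMap R Γ(X, W)) hrm)
      simpa using this
  -- Krull intersection in the stalk
  obtain ⟨W, hW, hxW, -⟩ := exists_isAffineOpen_mem_and_subset (x := x) (U := (⊤ : X.Opens)) trivial
  have hmax : (maximalIdeal R).map (algebraMap R Γ(X, W)) ≤
      (maximalIdeal (X.presheaf.stalk x)).comap (X.presheaf.germ W x hxW).hom := by
    rw [Ideal.map_le_iff_le_comap]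
    intro t ht
    show X.presheaf.germ W x hxW (φ W t) ∈ maximalIdeal _
    rw [mem_maximalIdeal, mem_nonunits_iff, ← Scheme.mem_basicOpen _ _ _ hxW]
    show x ∉ X.basicOpen (f.appLE ⊤ W le_top ((Scheme.ΓSpecIso R).inv t))
    rw [Scheme.basicOpen_appLE]
    intro hmem
    have h2' : f x ∈ (Spec R).basicOpen ((Scheme.ΓSpecIso R).inv t) := hmem.2
    rw [basicOpen_eq_of_affine, hx] at h2'
    have h3 : IsLocalRing.closedPoint R ∈ PrimeSpectrum.basicOpen t := h2'
    exact h3 ht
  rw [← TopCat.Presheaf.germ_res_apply X.presheaf (homOfLE le_top : W ⟶ ⊤) x hxW a]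
  have hmem : X.presheaf.germ W x hxW (aA W) ∈ (⨅ n : ℕ, maximalIdeal (X.presheaf.stalk x) ^ n) := by
    rw [Ideal.mem_iInf]
    intro n
    have h1 := main n W hW
    rw [Ideal.map_pow] at h1
    have h2 := Ideal.mem_map_of_mem (X.presheaf.germ W x hxW).hom (Ideal.pow_right_mono hmax n h1)
    rw [Ideal.map_pow] at h2
    exact Ideal.pow_right_mono Ideal.map_comap_le n h2
  rw [Ideal.iInf_pow_eq_bot_of_isLocalRing _ (maximalIdeal.isMaximal _).ne_top] at hmem
  exact hmem

end GrothLib.Rigid27
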